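import Cfsg.Agent.Lib.BenderOne.C2.Interface
import Cfsg.Agent.Lib.BenderOne.NodeA.Shape
import Cfsg.Agent.Lib.BenderOne8.TwoTrans

/-!
# Bender's theorem, part I, node C2: assembly
-/

set_option autoImplicit false
set_option linter.style.haveILetI false

namespace Cfsg.Agent.Lib.BenderOne.C2

open Subgroup MulAction
open Cfsg.Agent.Lib.BenderOne20
open Cfsg.Agent.Lib.Involutions.Basic
open Cfsg.Agent.Lib.BenderOne.NodeA (Big oddIn)

universe u

variable {G : Type u} [Group G] [Finite G] {H : Subgroup G}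

/-- A minimal counterexample satisfies the hypotheses of node C2. -/
theorem base (hII : BenderSuzuki.PropMain.{u, u}) (h : Min G H) (hA : CoreCentral H)
    (hNB : NoBad H) {b : G ⧸ H} (hb : b ≠ ((1 : G) : G ⧸ H)) :
    Base G ((1 : G) : G ⧸ H) b where
  oneFix := oneFix_of_stronglyEmbedded h.se
  propF := BenderOne8.propF_of_noBad hNB
  simple := h.simple
  ne := hb.symm
  four := hasFour_iff.1 h.four
  trans x y hx hy := by
    obtain ⟨g₁, rfl⟩ := QuotientGroup.mk_surjective x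
    obtain ⟨g₂, rfl⟩ := QuotientGroup.mk_surjective y
    obtain ⟨k, hk, hkx⟩ := BenderOne8.twoTrans_of_noBad h.se h.four hNB g₁ g₂
      (ne_one_iff.1 hx) (ne_one_iff.1 hy)
    refine ⟨k, BenderOne8.mem_stabilizer_one.2 hk, ?_⟩
    rw [Quotient.smul_mk, smul_eq_mul, eq_comm, QuotientGroup.eq]
    exact hkx
  shape := NodeA.shape hII h
  coreCentral M hM x hx hx2 y hy := by
    obtain ⟨a, ha, b, hb, ha2, hb2, hne, hab⟩ := hM.four
    obtain ⟨p, ⟨s, hs, hsM⟩, q, ⟨r, hr, hrM⟩, hpq⟩ := hM.many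
    refine hA M hM.ne_top ⟨a, ha, b, hb, ha2, hb2, hne, hab⟩
      ⟨s, hsM, r, hrM, hs.1, hr.1, fun g hg1 hg2 => hpq ?_⟩ x hx hx2 y hy
    have h1 : s • (g : G ⧸ H) = g := smul_eq_self_iff.2 hg1
    have h2 : r • (g : G ⧸ H) = g := smul_eq_self_iff.2 hg2
    exact ((oneFix_of_stronglyEmbedded h.se).eq_of_fix hs.1 hs.2 h1).trans
      ((oneFix_of_stronglyEmbedded h.se).eq_of_fix hr.1 h2 hr.2)

omit [Finite G] in
/-- A regular normal subgroup of the action gives one for the cosets. -/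
theorem regular_of_hasRegular (h : HasRegular G ((1 : G) : G ⧸ H)) :
    ∃ Q : Subgroup G, Regular H Q := by
  obtain ⟨Q, hle, hn, hfree, htr⟩ := h
  refine ⟨Q, ⟨fun x hx => BenderOne8.mem_stabilizer_one.1 (hle hx), fun k hk q hq =>
    (mem_normalizer_iff.1 (hn (BenderOne8.mem_stabilizer_one.2 hk)) q).1 hq, ?_, ?_⟩⟩
  · exact fun g hg q hq hqg => hfree _ (ne_one_iff.2 hg) q hq (smul_eq_self_iff.2 hqg)
  · intro g₁ g₂ h1 h2
    obtain ⟨q, hq, hqx⟩ := htr _ _ (ne_one_iff.2 h1) (ne_one_iff.2 h2)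
    refine ⟨q, hq, ?_⟩
    rw [Quotient.smul_mk, smul_eq_mul, eq_comm, QuotientGroup.eq] at hqx
    exact hqx

/-- Node C2 from its nodes. -/
theorem propRegular (hL : PropLocal.{u, u}) (hT : PropTop.{u, u}) (hK : PropKernel.{u, u})
    (hC : PropChars.{u, u}) (hN : PropCount.{u, u}) (hE : PropCommuting.{u, u})
    (hD : PropDirect.{u, u}) (h3 : PropFixedNormal.{u, u}) (h4 : PropNoFixedNormal.{u, u})
    (h1 : PropFree.{u, u}) : BenderOne.PropRegular.{u} := by
  intro hII X _ _ H h hA hNB _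
  obtain ⟨g, hg⟩ : ∃ g : X, g ∉ H := by
    by_contra hall
    push Not at hall
    exact h.se.1 (eq_top_iff.2 fun x _ => hall x)
  refine regular_of_hasRegular ?_
  set b : X ⧸ H := (g : X ⧸ H) with hbdef
  have hbase := base hII h hA hNB (b := b) (ne_one_iff.2 hg)
  obtain ⟨hloc, hdata⟩ := hL X (X ⧸ H) _ b hbase
  rcases hT X (X ⧸ H) _ b hbase hloc with hreg | ⟨M, q, hred⟩
  · exact hreg
  exfalso
  obtain ⟨u, hu⟩ := hbase.oneFix.swapSet_nonempty hbase.ne
  obtain ⟨t, ht⟩ := hdata u hu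
  obtain ⟨K, hKd⟩ := hK X (X ⧸ H) _ b u t M q hbase hloc ht hred
  have hch := hC X (X ⧸ H) _ b u t M K q hbase hloc ht hred hKd
  by_cases hcom : AllCommute X ((1 : X) : X ⧸ H)
  · exact hE hN X (X ⧸ H) _ b u t M K q hbase hloc ht hred hKd hch hcom
  have hdir := hD X (X ⧸ H) _ b u t M K q hbase hloc ht hred hKd hch hcom
  by_cases hfix : HasFixedNormal ((1 : X) : X ⧸ H) b u M K
  · exact h3 X (X ⧸ H) _ b u t M K q hbase hloc ht hred hKd hdir (hch.burnside hcom) hfix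
  · exact hcom (h1 X (X ⧸ H) _ b u t M K q hbase hloc ht hred hKd hch
      (h4 X (X ⧸ H) _ b u t M K q hbase hloc ht hred hKd hch hcom hfix))

end Cfsg.Agent.Lib.BenderOne.C2
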