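import Cfsg.Agent.Lib.BenderOne.Interface
import Cfsg.Agent.Lib.BenderOne.NodeA.Interface
import Cfsg.Agent.Lib.BenderOne8.Fixed

/-!
# Bender's theorem, part I, node C2: interface

The nodes of `notes/bender_nodeC2_final_helper20.md`.  Throughout `a ≠ b` are two points,
`D = pairStab G a b`, `u` is a swapper of the two points, `t` an involution at `a` with
`C_D(t) = C_D(u)`, and `J = invAt G a`.
-/

set_option autoImplicit false

namespace Cfsg.Agent.Lib.BenderOne.C2

open Subgroup MulAction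
open Cfsg.Agent.Lib.BenderOne20
open Cfsg.Agent.Lib.BenderOne8 (PropF Fx invCen)
open Cfsg.Agent.Lib.BenderOne.NodeA (Big Shape oddIn)

universe u v

variable {G : Type u} {Ω : Type v} [Group G] [MulAction G Ω]

/-- The hypotheses of node C2 as properties of the action. -/
structure Base (G : Type u) {Ω : Type v} [Group G] [MulAction G Ω] (a b : Ω) : Prop where
  oneFix : OneFix G Ω
  propF : PropF G Ω
  simple : IsSimpleGroup G
  ne : a ≠ b
  four : ∃ s ∈ invAt G a, ∃ r ∈ invAt G a, s ≠ r ∧ s * r = r * s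
  trans : ∀ x y : Ω, x ≠ a → y ≠ a → ∃ h ∈ stabilizer G a, h • x = y
  shape : ∀ M : Subgroup G, Big G Ω M → Shape G Ω M
  coreCentral : ∀ M : Subgroup G, Big G Ω M → ∀ x ∈ M, orderOf x = 2 →
    ∀ y ∈ oddIn M, x * y = y * x

/-- The target: a normal subgroup of the point stabiliser regular on the other points. -/
def HasRegular (G : Type u) {Ω : Type v} [Group G] [MulAction G Ω] (a : Ω) : Prop :=
  ∃ Q : Subgroup G, Q ≤ stabilizer G a ∧ stabilizer G a ≤ normalizer (Q : Set G) ∧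
    (∀ x : Ω, x ≠ a → ∀ q ∈ Q, q • x = x → q = 1) ∧
    ∀ x y : Ω, x ≠ a → y ≠ a → ∃ q ∈ Q, q • x = y

/-- All involutions at `a` commute. -/
def AllCommute (G : Type u) {Ω : Type v} [Group G] [MulAction G Ω] (a : Ω) : Prop :=
  ∀ s ∈ invAt G a, ∀ r ∈ invAt G a, s * r = r * s

/-- `R` is centralised by at least two involutions at `a`. -/
def Good (a : Ω) (R : Subgroup G) : Prop :=
  1 < Nat.card (invCen R a)

/-- `R` is centralised by exactly one involution at `a`. -/
def Single (a : Ω) (R : Subgroup G) : Prop :=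
  Nat.card (invCen R a) = 1

/-- `R` has an element which fixes only `a` and `b`, or is good. -/
def Anchor (a b : Ω) (R : Subgroup G) : Prop :=
  ∃ z ∈ R, z ≠ 1 ∧ ((∀ c : Ω, z • c = c → c = a ∨ c = b) ∨ Good a (zpowers z))

/-- The `2`-elements fixing `a` and centralising `R`. -/
def twoCen (R : Subgroup G) (a : Ω) : Set G :=
  {g | g • a = a ∧ g ∈ centralizer (R : Set G) ∧ ∃ k : ℕ, g ^ 2 ^ k = 1}

/-- All non-trivial `p`-elements of `X` are single. -/
def AllSingle (a : Ω) (X : Subgroup G) (p : ℕ) : Prop :=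
  ∀ g ∈ X, g ≠ 1 → (∃ k : ℕ, g ^ p ^ k = 1) → Single a (zpowers g)

/-- Every prime `p` with a quotient of order `p` of `X` has all `p`-elements of `X` single. -/
def SingleQuot (a : Ω) (X : Subgroup G) : Prop :=
  ∀ p : ℕ, p.Prime → (∃ χ : X →* Multiplicative (ZMod p), χ ≠ 1) → AllSingle a X p

/-- A swapper and an involution at `a` with the same centraliser in `D`. -/
structure Data (G : Type u) {Ω : Type v} [Group G] [MulAction G Ω] (a b : Ω) (u t : G) : Prop where
  swap : u ∈ swapSet G a b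
  mem : t ∈ invAt G a
  cen : pairStab G a b ⊓ centralizer {t} = pairStab G a b ⊓ centralizer {u}

/-- Node 1: the local facts at a pair of points. -/
structure Local (G : Type u) {Ω : Type v} [Group G] [MulAction G Ω] (a b : Ω) : Prop where
  /-- L2 -/
  trans : ∀ (p : ℕ) (R : Subgroup G), p.Prime → IsPGroup p R → R ≤ pairStab G a b → Anchor a b R →
    ∃ Q : Subgroup G, (∀ g : G, g ∈ Q ↔ g ∈ twoCen R a) ∧
      ∀ c ∈ (Fx R : Set Ω), c ≠ a → ∃ q ∈ Q, q • b = c
  /-- L1 -/
  commute : ∀ (p : ℕ) (R : Subgroup G), p.Prime → IsPGroup p R → R ≤ pairStab G a b → R ≠ ⊥ →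
    Good a R →
    ∀ s ∈ invCen R a, ∀ r ∈ invCen R a, s * r = r * s
  /-- L5 -/
  cyclic : ∀ (p : ℕ) (R A : Subgroup G) (u : G), p.Prime → IsPGroup p R → R ≤ pairStab G a b →
    R ≠ ⊥ → Good a R → u ∈ swapSet G a b → R ≤ centralizer {u} →
    A ≤ pairStab G a b ⊓ centralizer (R : Set G) → (∀ x ∈ A, u * x * u⁻¹ = x⁻¹) → IsCyclic A
  /-- L5: the normaliser in `Y` acts on the involutions of a good subgroup by field automorphisms. -/
  galois : ∀ (p : ℕ) (R : Subgroup G) (u t g : G) (j : ℕ), p.Prime → IsPGroup p R →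
    R ≤ pairStab G a b → R ≠ ⊥ → Good a R → Data G a b u t → R ≤ centralizer {u} →
    g ∈ pairStab G a b ⊓ centralizer {u} → g ∈ normalizer (R : Set G) →
    Nat.card (invCen R a) + 1 = 2 ^ j →
      (∀ s ∈ invCen R a, g ^ j * s = s * g ^ j) ∧
        ((orderOf g).Prime → Single a (zpowers g) → j = orderOf g)
  /-- L4 -/
  rankOne : ∀ (p : ℕ) (B : Subgroup G), p.Prime → IsPGroup p B → B ≤ pairStab G a b →
    (∀ x ∈ B, x ^ p = 1) → AllSingle a B p → IsCyclic B

/-- Node 2: the situation left by transfer. -/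
structure Red (a b : Ω) (M : Subgroup G) (q : ℕ) : Prop where
  le : M ≤ stabilizer G a
  normal : stabilizer G a ≤ normalizer (M : Set G)
  trans : ∀ x : Ω, x ≠ a → ∃ n ∈ M, n • b = x
  minimal : ∀ N : Subgroup G, N ≤ M → stabilizer G a ≤ normalizer (N : Set G) →
    (∀ x : Ω, x ≠ a → ∃ n ∈ N, n • b = x) → N = M
  two : ∀ g : G, g • a = a → (∃ k : ℕ, g ^ 2 ^ k = 1) → g ∈ M
  ker : ∀ d ∈ pairStab G a b, (∀ s ∈ invAt G a, d * s = s * d) → d = 1
  odd_normal : ∀ N : Subgroup G, N ≤ stabilizer G a → stabilizer G a ≤ normalizer (N : Set G) →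
    Odd (Nat.card N) → N ⊓ pairStab G a b = ⊥
  transitive_of_invol : ∀ N : Subgroup G, N ≤ stabilizer G a →
    stabilizer G a ≤ normalizer (N : Set G) → invAt G a ⊆ N →
    AllCommute G a ∨ ∀ x : Ω, x ≠ a → ∃ n ∈ N, n • b = x
  prime : q.Prime
  dvd : q ∣ Nat.card ↥(M ⊓ pairStab G a b)
  single : AllSingle a (M ⊓ pairStab G a b) q
  quot : SingleQuot a (M ⊓ pairStab G a b)

/-- The group `Y₂ = C_D(u) ∩ M`. -/
abbrev ySub (a b : Ω) (u : G) (M : Subgroup G) : Subgroup G :=
  (pairStab G a b ⊓ centralizer {u}) ⊓ M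

/-- Node 3: `D = K Y` with `K` abelian, normal and inverted. -/
structure KData (a b : Ω) (u t : G) (M K : Subgroup G) : Prop where
  le : K ≤ pairStab G a b
  le_M : K ≤ M
  normal : pairStab G a b ≤ normalizer (K : Set G)
  comm : ∀ x ∈ K, ∀ y ∈ K, x * y = y * x
  inverted : ∀ k ∈ K, u * k * u⁻¹ = k⁻¹
  cover : ∀ d ∈ pairStab G a b, ∃ k ∈ K, ∃ y ∈ pairStab G a b ⊓ centralizer {u}, d = k * y
  conj : ∀ s ∈ invAt G a, ∃ k ∈ K, k * t * k⁻¹ = s
  quot : SingleQuot a (ySub a b u M)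
  fpf : ∀ g ∈ ySub a b u M, g ≠ 1 → (∃ p k : ℕ, p.Prime ∧ g ^ p ^ k = 1) →
    Single a (zpowers g) → ∀ k ∈ K, g * k = k * g → k = 1

/-- No non-trivial element of `X` centralises a non-trivial element of `K`. -/
def Free (K X : Subgroup G) : Prop :=
  ∀ x ∈ X, x ≠ 1 → ∀ k ∈ K, x * k = k * x → k = 1

section Characters

variable (t : G) (M K X : Subgroup G)

/-- The stabiliser in `X` of a character of `K`. -/
def charStab (lam : K →* ℂˣ) : Set G :=
  {x | x ∈ X ∧ ∀ k l : K, (l : G) = x * k * x⁻¹ → lam l = lam k}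

/-- Two characters have stabilisers conjugate in `X`. -/
def SameType (lam mu : K →* ℂˣ) : Prop :=
  ∃ z ∈ X, ∀ x : G, x ∈ charStab K X lam ↔ z * x * z⁻¹ ∈ charStab K X mu

/-- Every `X`-conjugate of the character kills one non-trivial element of `K`. -/
def NonFaithful (lam : K →* ℂˣ) : Prop :=
  ∃ k : K, k ≠ 1 ∧ ∀ x ∈ X, ∀ l : K, (l : G) = x * k * x⁻¹ → lam l = 1

/-- Functions on `K ≅ J` constant on the orbits of `C_M(t)`. -/
def Invariant (F : K → ℂ) : Prop :=
  ∀ k l : K, (∃ h ∈ M, h * t = t * h ∧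
    h * ((k : G) * t * (k : G)⁻¹) * h⁻¹ = (l : G) * t * (l : G)⁻¹) → F k = F l

/-- The Fourier transform. -/
noncomputable def hat (F : K → ℂ) (lam : K →* ℂˣ) : ℂ :=
  ∑ᶠ k : K, F k * (lam k : ℂ)

/-- The two characters lie in one constituent. -/
def Merged (lam mu : K →* ℂˣ) : Prop :=
  ∀ F : K → ℂ, Invariant t M K F → hat K F lam = hat K F mu

end Characters

/-- Node 4: what the characters of `M` give. -/
structure Chars (a b : Ω) (u t : G) (M K : Subgroup G) : Prop where
  /-- C2, C3, C4 -/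
  merge : ¬ AllCommute G a → ∀ lam mu : K →* ℂˣ, lam ≠ 1 → mu ≠ 1 →
    SameType K (ySub a b u M) lam mu →
    ((∃ nu : K →* ℂˣ, nu ≠ 1 ∧ SameType K (ySub a b u M) lam nu ∧
        NonFaithful K (ySub a b u M) nu) ∨
      Nat.Coprime (Nat.card ↥(ySub a b u M)) (Nat.card K)) →
    Merged t M K lam mu
  /-- the dichotomy for a free action -/
  dichotomy : Free K (ySub a b u M) →
    (∀ lam mu : K →* ℂˣ, lam ≠ 1 → mu ≠ 1 → Merged t M K lam mu) ∨
    ∀ s ∈ invAt G a, ∀ h ∈ M, h * t = t * h →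
      ∃ y ∈ ySub a b u M, h * s * h⁻¹ = y * s * y⁻¹
  /-- C5 -/
  burnside : ¬ AllCommute G a → ¬ IsPrimePow (Nat.card K)

/-- The counting configuration of node 5. -/
structure CountHyp (a b : Ω) (u t : G) (K : Subgroup G) (q : ℕ) : Prop where
  data : Data G a b u t
  le : K ≤ pairStab G a b
  normal : pairStab G a b ≤ normalizer (K : Set G)
  comm : ∀ x ∈ K, ∀ y ∈ K, x * y = y * x
  inverted : ∀ k ∈ K, u * k * u⁻¹ = k⁻¹
  cover : ∀ d ∈ pairStab G a b, ∃ k ∈ K, ∃ y ∈ pairStab G a b ⊓ centralizer {u}, d = k * y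
  prime : q.Prime
  odd : Odd q
  cardY : Nat.card ↥(pairStab G a b ⊓ centralizer {u}) = q
  cardK : Nat.card K = 2 ^ q - 1
  cardJ : Nat.card (invAt G a) = 2 ^ q - 1
  free : Free K (pairStab G a b ⊓ centralizer {u})
  allCommute : AllCommute G a
  trans : ∀ s ∈ invAt G a, ∀ r ∈ invAt G a, s ≠ t → r ≠ t →
    ∃ h ∈ stabilizer G a, h * t = t * h ∧ h * s * h⁻¹ = r

/-! ## The nodes -/

/-- Node 1. -/
def PropLocal.{w, z} : Prop :=
  ∀ (G : Type w) (Ω : Type z) [Group G] [MulAction G Ω] [Finite G] (a b : Ω), Base G a b →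
    Local G a b ∧ ∀ u ∈ swapSet G a b, ∃ t : G, Data G a b u t

/-- Node 2. -/
def PropTop.{w, z} : Prop :=
  ∀ (G : Type w) (Ω : Type z) [Group G] [MulAction G Ω] [Finite G] (a b : Ω), Base G a b →
    Local G a b → HasRegular G a ∨ ∃ (M : Subgroup G) (q : ℕ), Red a b M q

/-- Node 3. -/
def PropKernel.{w, z} : Prop :=
  ∀ (G : Type w) (Ω : Type z) [Group G] [MulAction G Ω] [Finite G] (a b : Ω) (u t : G)
    (M : Subgroup G) (q : ℕ), Base G a b → Local G a b → Data G a b u t → Red a b M q →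
      ∃ K : Subgroup G, KData a b u t M K

/-- Node 4. -/
def PropChars.{w, z} : Prop :=
  ∀ (G : Type w) (Ω : Type z) [Group G] [MulAction G Ω] [Finite G] (a b : Ω) (u t : G)
    (M K : Subgroup G) (q : ℕ), Base G a b → Local G a b → Data G a b u t → Red a b M q →
      KData a b u t M K → Chars a b u t M K

/-- Node 5b: the count. -/
def PropCount.{w, z} : Prop :=
  ∀ (G : Type w) (Ω : Type z) [Group G] [MulAction G Ω] [Finite G] (a b : Ω) (u t : G)
    (K : Subgroup G) (q : ℕ), Base G a b → CountHyp a b u t K q → False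

/-- Node 5a: the involutions at `a` commute. -/
def PropCommuting.{w, z} : Prop :=
  PropCount.{w, z} →
    ∀ (G : Type w) (Ω : Type z) [Group G] [MulAction G Ω] [Finite G] (a b : Ω) (u t : G)
      (M K : Subgroup G) (q : ℕ), Base G a b → Local G a b → Data G a b u t → Red a b M q →
        KData a b u t M K → Chars a b u t M K → AllCommute G a → False

/-- F2: a direct factor of `K` centralised by all elements with fixed points. -/
def Direct (a b : Ω) (u : G) (M K : Subgroup G) : Prop :=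
  ∀ K' L : Subgroup G, K' ≠ ⊥ → L ≠ ⊥ → K' ⊓ L = ⊥ → K' ⊔ L = K →
    ySub a b u M ≤ normalizer (K' : Set G) → ySub a b u M ≤ normalizer (L : Set G) →
    (∀ y ∈ ySub a b u M, (∃ k ∈ K, k ≠ 1 ∧ y * k = k * y) → ∀ l ∈ L, y * l = l * y) →
    (∃ y ∈ ySub a b u M, y ≠ 1 ∧ ∀ l ∈ L, y * l = l * y) → False

/-- F2. -/
def PropDirect.{w, z} : Prop :=
  ∀ (G : Type w) (Ω : Type z) [Group G] [MulAction G Ω] [Finite G] (a b : Ω) (u t : G)
    (M K : Subgroup G) (q : ℕ), Base G a b → Local G a b → Data G a b u t → Red a b M q →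
      KData a b u t M K → Chars a b u t M K → ¬ AllCommute G a → Direct a b u M K

/-- `Y₂` has a non-trivial normal subgroup centralising a non-trivial element of `K`. -/
def HasFixedNormal (a b : Ω) (u : G) (M K : Subgroup G) : Prop :=
  ∃ X : Subgroup G, X ≤ ySub a b u M ∧ X ≠ ⊥ ∧ ySub a b u M ≤ normalizer (X : Set G) ∧
    ∃ k ∈ K, k ≠ 1 ∧ ∀ x ∈ X, x * k = k * x

/-- F3. -/
def PropFixedNormal.{w, z} : Prop :=
  ∀ (G : Type w) (Ω : Type z) [Group G] [MulAction G Ω] [Finite G] (a b : Ω) (u t : G)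
    (M K : Subgroup G) (q : ℕ), Base G a b → Local G a b → Data G a b u t → Red a b M q →
      KData a b u t M K → Direct a b u M K → ¬ IsPrimePow (Nat.card K) →
        HasFixedNormal a b u M K → False

/-- F4. -/
def PropNoFixedNormal.{w, z} : Prop :=
  ∀ (G : Type w) (Ω : Type z) [Group G] [MulAction G Ω] [Finite G] (a b : Ω) (u t : G)
    (M K : Subgroup G) (q : ℕ), Base G a b → Local G a b → Data G a b u t → Red a b M q →
      KData a b u t M K → Chars a b u t M K → ¬ AllCommute G a → ¬ HasFixedNormal a b u M K →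
        Free K (ySub a b u M)

/-- F1. -/
def PropFree.{w, z} : Prop :=
  ∀ (G : Type w) (Ω : Type z) [Group G] [MulAction G Ω] [Finite G] (a b : Ω) (u t : G)
    (M K : Subgroup G) (q : ℕ), Base G a b → Local G a b → Data G a b u t → Red a b M q →
      KData a b u t M K → Chars a b u t M K → Free K (ySub a b u M) → AllCommute G a

end Cfsg.Agent.Lib.BenderOne.C2
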